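import Cfsg.Agent.Hall.Existence
import Cfsg.Agent.Fusion.Frobenius
import Cfsg.Agent.Cores.PCore
import Cfsg.Agent.S0205

/-!
# Hall numbers: elementary tools for the sufficiency of the condition
-/

set_option autoImplicit false

namespace Cfsg.Agent.H84.HallNum

open Subgroup

universe u

variable {G : Type u} [Group G] [Finite G]

local instance : Fact (Nat.Prime 2) := ⟨Nat.prime_two⟩

theorem isSolvable_of_normal (N : Subgroup G) [N.Normal] (h1 : Group.IsSolvable N)
    (h2 : Group.IsSolvable (G ⧸ N)) : Group.IsSolvable G :=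
  (Group.isSolvable_iff_subgroup_quotient N).mpr ⟨h1, h2⟩

theorem isSolvable_of_two_group {Q : Type u} [Group Q] [Finite Q] (h : IsPGroup 2 Q) :
    Group.IsSolvable Q := by
  have := h.isNilpotent
  infer_instance

theorem isSolvable_of_hasNormalPComplement (h : HasNormalPComplement 2 G) : Group.IsSolvable G := by
  obtain ⟨P, N, hN, hc⟩ := h
  refine isSolvable_of_normal N ?_ ?_
  · refine Cfsg.Agent.S0205.result (Nat.not_even_iff_odd.mp fun he => ?_)
    exact Fusion.not_dvd_card_of_isComplement' P hc he.two_dvd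
  · exact isSolvable_of_two_group (Fusion.isPGroup_quotient_of_isComplement' P hc)

theorem hasNormalPComplement_of_not_four_dvd (h : ¬ 4 ∣ Nat.card G) :
    HasNormalPComplement 2 G := by
  by_cases h2 : 2 ∣ Nat.card G
  swap
  · exact Fusion.hasNormalPComplement_of_not_dvd h2
  let P : Sylow 2 G := default
  obtain ⟨k, hk⟩ := IsPGroup.iff_card.mp P.isPGroup'
  have hk1 : k ≤ 1 := by
    by_contra hk1
    exact h ((Nat.pow_dvd_pow 2 (show 2 ≤ k by omega)).trans (hk ▸ card_subgroup_dvd_card _))
  have hcyc : IsCyclic P := by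
    interval_cases k
    · have : Subsingleton P := (Nat.card_eq_one_iff_unique.mp hk).1
      infer_instance
    · exact isCyclic_of_prime_card (p := 2) (by simpa using hk)
  exact Fusion.hasNormalPComplement_of_normalizer_le_centralizer P
    (IsCyclic.normalizer_le_centralizer (P := P) ((Nat.minFac_eq_two_iff _).mpr h2) hcyc)

theorem isSolvable_of_not_four_dvd (h : ¬ 4 ∣ Nat.card G) : Group.IsSolvable G :=
  isSolvable_of_hasNormalPComplement (hasNormalPComplement_of_not_four_dvd h)

/-- A soluble group has a subgroup of every order coprime to the corresponding index. -/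
theorem exists_of_isSolvable [Group.IsSolvable G] {m : ℕ} (hm : m ∣ Nat.card G)
    (hc : m.Coprime (Nat.card G / m)) : ∃ H : Subgroup G, Nat.card H = m := by
  obtain ⟨H, hH⟩ := (Hall.hallDom_of_isSolvable {p | p ∣ m} G).1
  refine ⟨H, Nat.dvd_antisymm ?_ ?_⟩
  · have h1 : (Nat.card H).Coprime (Nat.card G / m) := Nat.coprime_of_dvd fun p hp ha hb =>
      Nat.not_coprime_of_dvd_of_dvd hp.one_lt (hH.1 p hp ha) hb hc
    refine h1.dvd_of_dvd_mul_right ?_
    rw [Nat.mul_div_cancel' hm]
    exact card_subgroup_dvd_card H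
  · have h1 : m.Coprime H.index := Nat.coprime_of_dvd fun p hp ha hb => hH.2 p hp ha hb
    refine h1.dvd_of_dvd_mul_right ?_
    rw [H.card_mul_index]
    exact hm

theorem coprime_of_subgroup {X : Subgroup G} {m : ℕ} (hX : m ∣ Nat.card X)
    (hc : m.Coprime (Nat.card G / m)) : m.Coprime (Nat.card X / m) :=
  hc.coprime_dvd_right (Nat.div_dvd_div hX (card_subgroup_dvd_card X))

theorem exists_of_subgroup {X : Subgroup G} {m : ℕ} (h : ∃ H : Subgroup X, Nat.card H = m) :
    ∃ H : Subgroup G, Nat.card H = m := by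
  obtain ⟨H, hH⟩ := h
  exact ⟨H.map X.subtype, by rw [card_map_of_injective X.subtype_injective, hH]⟩

theorem exists_of_solvable_subgroup (X : Subgroup G) (hs : Group.IsSolvable X) {m : ℕ}
    (hX : m ∣ Nat.card X) (hc : m.Coprime (Nat.card G / m)) :
    ∃ H : Subgroup G, Nat.card H = m :=
  exists_of_subgroup (exists_of_isSolvable hX (coprime_of_subgroup hX hc))

theorem card_comap_mk' (N : Subgroup G) [N.Normal] (H : Subgroup (G ⧸ N)) :
    Nat.card (H.comap (QuotientGroup.mk' N)) = Nat.card H * Nat.card N := by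
  rw [← Hall.card_map_mk'_mul N (H.comap (QuotientGroup.mk' N))
    (fun x hx => by rw [mem_comap, QuotientGroup.mk'_apply, (QuotientGroup.eq_one_iff x).mpr hx]; exact one_mem H),
    map_comap_eq_self_of_surjective (QuotientGroup.mk'_surjective N)]

/-- A soluble subgroup of a quotient by an odd normal subgroup gives a soluble subgroup. -/
theorem exists_solvable_of_quotient (N : Subgroup G) [N.Normal] (hN : Odd (Nat.card N))
    (H : Subgroup (G ⧸ N)) (hs : Group.IsSolvable H) :
    ∃ K : Subgroup G, Group.IsSolvable K ∧ Nat.card K = Nat.card H * Nat.card N := by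
  have hNs : Group.IsSolvable N := Cfsg.Agent.S0205.result hN
  refine ⟨H.comap (QuotientGroup.mk' N), ?_, card_comap_mk' N H⟩
  refine Group.isSolvable_of_ker_le_range (inclusion (?_ : N ≤ H.comap (QuotientGroup.mk' N)))
    (((QuotientGroup.mk' N).domRestrict (H.comap (QuotientGroup.mk' N))).codRestrict H fun x => x.2) ?_
  · exact fun x hx => by
      rw [mem_comap, QuotientGroup.mk'_apply, (QuotientGroup.eq_one_iff x).mpr hx]; exact one_mem H
  · intro x hx
    exact ⟨⟨(x : G), (QuotientGroup.eq_one_iff _).mp (congrArg Subtype.val hx)⟩, rfl⟩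

/-- Lifting through a normal subgroup of order prime to the wanted one. -/
theorem exists_of_quotient (N : Subgroup G) [N.Normal] {m : ℕ} (hN : (Nat.card N).Coprime m)
    (h : ∃ H : Subgroup (G ⧸ N), Nat.card H = m) : ∃ H : Subgroup G, Nat.card H = m := by
  obtain ⟨H, hH⟩ := h
  have hle : N ≤ H.comap (QuotientGroup.mk' N) := fun x hx => by
    rw [mem_comap, QuotientGroup.mk'_apply, (QuotientGroup.eq_one_iff x).mpr hx]; exact one_mem H
  refine exists_of_subgroup (X := H.comap (QuotientGroup.mk' N)) ?_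
  have e1 : Nat.card (N.subgroupOf (H.comap (QuotientGroup.mk' N))) = Nat.card N :=
    Nat.card_congr (subgroupOfEquivOfLe hle).toEquiv
  have e2 : (N.subgroupOf (H.comap (QuotientGroup.mk' N))).index = m := by
    refine Nat.eq_of_mul_eq_mul_left (Nat.card_pos (α := N)) ?_
    conv_lhs => rw [← e1]
    rw [card_mul_index, card_comap_mk', hH, mul_comm]
  obtain ⟨K, hK⟩ := exists_right_complement'_of_coprime (N := N.subgroupOf (H.comap (QuotientGroup.mk' N)))
    (by rw [e1, e2]; exact hN)
  exact ⟨K, by rw [← e2, hK.symm.index_eq_card]⟩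

theorem exact_quotient (N : Subgroup G) [N.Normal] {m : ℕ} (hm : m ∣ Nat.card G)
    (hN : (Nat.card N).Coprime m) (hc : m.Coprime (Nat.card G / m)) :
    m ∣ Nat.card (G ⧸ N) ∧ m.Coprime (Nat.card (G ⧸ N) / m) := by
  have h : m ∣ Nat.card (G ⧸ N) := by
    refine hN.symm.dvd_of_dvd_mul_right ?_
    rw [← card_eq_card_quotient_mul_card_subgroup]
    exact hm
  exact ⟨h, hc.coprime_dvd_right (Nat.div_dvd_div h (card_quotient_dvd_card N))⟩

theorem oddCore_quotient_eq_bot : Cfsg.oddCore (G ⧸ Cfsg.oddCore G) = ⊥ := by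
  rw [eq_bot_iff]
  intro x hx
  obtain ⟨g, rfl⟩ := QuotientGroup.mk'_surjective _ x
  have h := Cores.comap_pPrimeCore_quotient (p := 2) (Cfsg.oddCore G) Cores.coprime_card_pPrimeCore
  have hg : g ∈ Cfsg.oddCore G := (SetLike.ext_iff.mp h g).mp (mem_comap.mpr hx)
  exact (QuotientGroup.eq_one_iff g).mpr hg

/-- Passing to the quotient by the core, when a soluble subgroup of order `m` there suffices. -/
theorem exists_of_quotient_solvable {m : ℕ} (N : Subgroup G) [N.Normal] (hN : Odd (Nat.card N))
    {d : ℕ} (hd : m ∣ d * Nat.card N) (hc : m.Coprime (Nat.card G / m))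
    (h : ∃ H : Subgroup (G ⧸ N), Nat.card H = d ∧ Group.IsSolvable H) :
    ∃ H : Subgroup G, Nat.card H = m := by
  obtain ⟨H, hH, hs⟩ := h
  obtain ⟨K, hK, hKc⟩ := exists_solvable_of_quotient N hN H hs
  exact exists_of_solvable_subgroup K hK (by rw [hKc, hH]; exact hd) hc

end Cfsg.Agent.H84.HallNum
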