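import Cfsg.Agent.H84.HallNum.TwentyFour
import Cfsg.Agent.S0804
import Cfsg.Agent.H63.GW.Shape

/-!
# Hall numbers: sufficiency of the condition
-/

set_option autoImplicit false

namespace Cfsg.Agent.H84.HallNum

open Subgroup

universe u

/-- The four-group case of the classification of perfect core-free groups with dihedral Sylow
2-subgroups. -/
def KleinPerfect : Prop :=
  ∀ (X : Type u) [Group X] [Finite X], Group.IsPerfect X → Cfsg.oddCore X = ⊥ →
    ∀ S : Sylow 2 X, IsKleinFour (S : Subgroup X) → H63.GW.SimpleShape X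

variable {G : Type u} [Group G] [Finite G]

local instance : Fact (Nat.Prime 2) := ⟨Nat.prime_two⟩

theorem exact_sixty {n : ℕ} (hm : 60 ∣ n) (hc : Nat.Coprime 60 (n / 60)) :
    ¬ 8 ∣ n ∧ ¬ 9 ∣ n ∧ ¬ 25 ∣ n := by
  obtain ⟨q, rfl⟩ := hm
  rw [Nat.mul_div_cancel_left q (by norm_num)] at hc
  have h2 : q % 2 ≠ 0 := fun h =>
    Nat.not_coprime_of_dvd_of_dvd (d := 2) (by norm_num) (by norm_num) (Nat.dvd_of_mod_eq_zero h) hc
  have h3 : q % 3 ≠ 0 := fun h =>
    Nat.not_coprime_of_dvd_of_dvd (d := 3) (by norm_num) (by norm_num) (Nat.dvd_of_mod_eq_zero h) hc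
  have h5 : q % 5 ≠ 0 := fun h =>
    Nat.not_coprime_of_dvd_of_dvd (d := 5) (by norm_num) (by norm_num) (Nat.dvd_of_mod_eq_zero h) hc
  refine ⟨?_, ?_, ?_⟩ <;> omega

theorem sixty_reduced (GW : KleinPerfect.{u}) (hm : 60 ∣ Nat.card G)
    (hc : Nat.Coprime 60 (Nat.card G / 60)) (hO : Cfsg.oddCore G = ⊥) :
    ∃ H : Subgroup G, Nat.card H = 60 := by
  by_cases hs : Group.IsSolvable G
  · exact exists_of_isSolvable hm hc
  obtain ⟨h8, h9, h25⟩ := exact_sixty hm hc
  have hn : ¬ HasNormalPComplement 2 G := fun h => hs (isSolvable_of_hasNormalPComplement h)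
  let S : Sylow 2 G := default
  have hS : Nat.card (S : Subgroup G) = 4 :=
    sylow_card (a := 2) S ((show 2 ^ 2 ∣ 60 by norm_num).trans hm) h8
  obtain ⟨U, hU, g, r, k, hg, hr, hr2, hk, hgC⟩ := exists_local S hn
  obtain ⟨rfl, hU4, hUk⟩ := klein_of_local hr hr2 hg hk hgC
    ((card_dvd_of_le hU).trans (dvd_of_eq hS))
  have hgo := orderOf_eq_three hk h9 hgC
  obtain rfl : U = (S : Subgroup G) := eq_of_le_of_card_ge hU (by rw [hU4, hS])
  have h16 : ¬ 16 ∣ Nat.card G := fun h => h8 ((show 8 ∣ 16 by norm_num).trans h)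
  have hN := isSolvable_normalizer_klein hUk (isSolvable_centralizer_of_card_four hUk h16)
  have hN3 : 3 ∣ Nat.card (normalizer ((S : Subgroup G) : Set G)) := by
    rw [← hgo, ← Nat.card_zpowers]; exact card_dvd_of_le (zpowers_le.mpr hg)
  have hN4 : 4 ∣ Nat.card (normalizer ((S : Subgroup G) : Set G)) := by
    rw [← hS]; exact card_dvd_of_le le_normalizer
  by_cases h5 : 5 ∣ Nat.card (normalizer ((S : Subgroup G) : Set G))
  · exact exists_of_solvable_subgroup _ hN
      ((show Nat.Coprime 12 5 by norm_num).mul_dvd_of_dvd_of_dvd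
        ((show Nat.Coprime 4 3 by norm_num).mul_dvd_of_dvd_of_dvd hN4 hN3) h5) hc
  obtain ⟨W, hWn, hW1, hWW⟩ := H61.ClassDiam.exists_perfect_normal hs
  haveI := hWn
  haveI hWp : Group.IsPerfect W := ⟨by
    apply map_injective W.subtype_injective
    rw [map_subtype_commutator, hWW, ← MonoidHom.range_eq_map, range_subtype]⟩
  have hWO : Cfsg.oddCore W = ⊥ := by
    have h := Cores.map_pPrimeCore_of_normal (p := 2) W
    rw [show Cfsg.pPrimeCore 2 G = ⊥ from hO, bot_inf_eq] at h
    exact (map_eq_bot_iff_of_injective _ W.subtype_injective).mp h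
  have hW4 : 4 ∣ Nat.card W := by
    by_contra h4
    haveI := isSolvable_of_not_four_dvd h4
    haveI : Nontrivial W := W.nontrivial_iff_ne_bot.mpr hW1
    exact (Group.IsSolvable.commutator_lt_top_of_nontrivial (G := W)).ne
      (Group.IsPerfect.commutator_eq_top)
  have hidx : ¬ 2 ∣ W.index := fun h => h8 (by
    rw [← W.card_mul_index]
    exact Nat.mul_dvd_mul hW4 h)
  have hSW : (S : Subgroup G) ≤ W := fun x hx => by
    have h1 : orderOf (x : G ⧸ W) ∣ 4 := by
      refine (orderOf_map_dvd (QuotientGroup.mk' W) x).trans ?_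
      rw [← hS]
      have := orderOf_dvd_natCard (⟨x, hx⟩ : (S : Subgroup G))
      rwa [Subgroup.orderOf_mk] at this
    have h2 : orderOf (x : G ⧸ W) ∣ W.index := W.index_eq_card ▸ orderOf_dvd_natCard _
    have hco : Nat.Coprime 4 W.index :=
      Nat.Coprime.pow_left 2 (Nat.prime_two.coprime_iff_not_dvd.mpr hidx)
    exact (QuotientGroup.eq_one_iff x).mp (orderOf_eq_one_iff.mp
      (Nat.dvd_one.mp (hco ▸ Nat.dvd_gcd h1 h2)))
  let P : Sylow 2 W := S.subtype hSW
  have hPk : IsKleinFour (P : Subgroup W) :=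
    isKleinFour_congr (subgroupOfEquivOfLe hSW).symm hUk
  have hfr := Sylow.normalizer_sup_eq_top P
  rw [show ((P : Subgroup W).map W.subtype) = (S : Subgroup G) from
    map_subgroupOf_eq_of_le hSW] at hfr
  have h5W : 5 ∣ Nat.card W := by
    have h := Hall.card_sup_dvd_mul W (normalizer ((S : Subgroup G) : Set G))
    rw [sup_comm, hfr, card_top] at h
    exact ((Nat.Prime.dvd_mul (by norm_num : Nat.Prime 5)).mp
      (((show 5 ∣ 60 by norm_num).trans hm).trans h)).resolve_right h5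
  rcases GW W hWp hWO P hPk with ⟨F, _, _, -, -, ⟨e⟩⟩ | ⟨⟨e⟩⟩
  · have h5q : 5 ∣ Fintype.card F * (Fintype.card F ^ 2 - 1) := by
      rw [← Cfsg.Agent.Linear.card_PSL_two_mul (F := F), ← Nat.card_congr e.toEquiv]
      exact dvd_mul_of_dvd_right h5W _
    obtain ⟨K, ⟨f⟩⟩ := (Cfsg.Agent.S0804.result (F := F) rfl).mpr h5q
    refine exists_of_subgroup ⟨K.map e.symm.toMonoidHom, ?_⟩
    rw [card_map_of_injective e.symm.injective, Nat.card_congr f.toEquiv,
      nat_card_alternatingGroup, Nat.card_fin]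
    rfl
  · exfalso
    refine h8 (Dvd.dvd.trans ?_ (card_subgroup_dvd_card W))
    rw [Nat.card_congr e.toEquiv, nat_card_alternatingGroup, Nat.card_fin]
    decide

theorem sixty (GW : KleinPerfect.{u}) (hm : 60 ∣ Nat.card G)
    (hc : Nat.Coprime 60 (Nat.card G / 60)) : ∃ H : Subgroup G, Nat.card H = 60 := by
  by_cases hn : HasNormalPComplement 2 G
  · haveI := isSolvable_of_hasNormalPComplement hn
    exact exists_of_isSolvable hm hc
  obtain ⟨h8, h9, h25⟩ := exact_sixty hm hc
  have hOodd : Odd (Nat.card (Cfsg.oddCore G)) := Cores.odd_card_oddCore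
  have hQ := card_eq_card_quotient_mul_card_subgroup (Cfsg.oddCore G)
  have hQ4 : 4 ∣ Nat.card (G ⧸ Cfsg.oddCore G) := by
    refine (Nat.Coprime.dvd_of_dvd_mul_right
      ((Nat.coprime_two_left.mpr hOodd).pow_left 2) ?_)
    rw [← hQ]
    exact (show 2 ^ 2 ∣ 60 by norm_num).trans hm
  by_cases h3 : 3 ∣ Nat.card (Cfsg.oddCore G)
  · let S : Sylow 2 G := default
    have hS : Nat.card (S : Subgroup G) = 4 :=
      sylow_card (a := 2) S ((show 2 ^ 2 ∣ 60 by norm_num).trans hm) h8
    obtain ⟨U, hU, g, r, k, hg, hr, hr2, hk, hgC⟩ := exists_local S hn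
    obtain ⟨-, hU4, hUk⟩ := klein_of_local hr hr2 hg hk hgC
      ((card_dvd_of_le hU).trans (dvd_of_eq hS))
    obtain rfl : U = (S : Subgroup G) := eq_of_le_of_card_ge hU (by rw [hU4, hS])
    let R : Sylow 2 (G ⧸ Cfsg.oddCore G) :=
      S.mapSurjective (QuotientGroup.mk'_surjective (Cfsg.oddCore G))
    have hR4 : Nat.card (R : Subgroup (G ⧸ Cfsg.oddCore G)) = 4 :=
      sylow_card (a := 2) R hQ4 fun h => h8 (h.trans (card_quotient_dvd_card _))
    have hR : IsKleinFour (R : Subgroup (G ⧸ Cfsg.oddCore G)) := by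
      let f : (S : Subgroup G) →* (R : Subgroup (G ⧸ Cfsg.oddCore G)) :=
        (QuotientGroup.mk' (Cfsg.oddCore G)).subgroupMap (S : Subgroup G)
      have hf : Function.Bijective f := by
        refine (Function.Surjective.bijective_of_nat_card_le
          (MonoidHom.subgroupMap_surjective _ _) ?_)
        rw [hS, hR4]
      exact isKleinFour_congr (MulEquiv.ofBijective f hf) hUk
    have hQ3 : ¬ 3 ∣ Nat.card (G ⧸ Cfsg.oddCore G) := fun h => h9 (by
      rw [hQ]; exact Nat.mul_dvd_mul h h3)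
    haveI : Group.IsSolvable G := isSolvable_of_normal (Cfsg.oddCore G)
      (Cfsg.Agent.S0205.result hOodd)
      (isSolvable_of_hasNormalPComplement (Cfsg.Agent.S0084.result R hR hQ3))
    exact exists_of_isSolvable hm hc
  by_cases h5 : 5 ∣ Nat.card (Cfsg.oddCore G)
  · refine exists_of_quotient_solvable (d := 12) (Cfsg.oddCore G) hOodd
      (Nat.mul_dvd_mul_left 12 h5) hc ?_
    have h12 : 12 ∣ Nat.card (G ⧸ Cfsg.oddCore G) := by
      refine (show Nat.Coprime 4 3 by norm_num).mul_dvd_of_dvd_of_dvd hQ4 ?_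
      refine (((Nat.Prime.dvd_mul Nat.prime_three).mp (hQ ▸ (show 3 ∣ 60 by norm_num).trans hm))).resolve_right h3
    refine twelve h12 (Nat.Coprime.symm (coprime_of_dvd_primes (by norm_num) (fun _ h => ?_)
      (fun _ h => ?_) (fun h => by norm_num at h)))
    · refine h8 (Dvd.dvd.trans ?_ (card_quotient_dvd_card (Cfsg.oddCore G)))
      omega
    · refine h9 (Dvd.dvd.trans ?_ (card_quotient_dvd_card (Cfsg.oddCore G)))
      omega
  · have hN : (Nat.card (Cfsg.oddCore G)).Coprime 60 := coprime_of_dvd_primes (by norm_num)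
      (fun _ => hOodd.not_two_dvd_nat) (fun _ => h3) (fun _ => h5)
    obtain ⟨hm', hc'⟩ := exact_quotient (Cfsg.oddCore G) hm hN hc
    exact exists_of_quotient (Cfsg.oddCore G) hN
      (sixty_reduced GW hm' hc' oddCore_quotient_eq_bot)

/-- The condition is sufficient. -/
theorem exists_of_condition (GW : KleinPerfect.{u}) {m : ℕ}
    (h : IsPrimePow m ∨ m % 4 = 2 ∨ m = 12 ∨ m = 24 ∨ m = 60) (hm : m ∣ Nat.card G)
    (hc : m.Coprime (Nat.card G / m)) : ∃ H : Subgroup G, Nat.card H = m := by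
  rcases h with h | h | rfl | rfl | rfl
  · obtain ⟨p, k, hp, -, rfl⟩ := (isPrimePow_nat_iff m).mp h
    haveI : Fact p.Prime := ⟨hp⟩
    exact Sylow.exists_subgroup_card_pow_prime p hm
  · have hs : Group.IsSolvable G := by
      refine isSolvable_of_not_four_dvd fun h4 => ?_
      obtain ⟨q, hq⟩ := hm
      rw [hq, Nat.mul_div_cancel_left q (by omega)] at hc
      have h2q : ¬ 2 ∣ q := fun h2 =>
        Nat.not_coprime_of_dvd_of_dvd (d := 2) (by norm_num) (Nat.dvd_of_mod_eq_zero (by omega)) h2 hc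
      have : 4 ∣ m := ((Nat.prime_two.coprime_iff_not_dvd.mpr h2q).pow_left 2).dvd_of_dvd_mul_right
        (hq ▸ h4)
      omega
    exact exists_of_isSolvable hm hc
  · obtain ⟨H, hH, -⟩ := twelve hm hc
    exact ⟨H, hH⟩
  · exact twentyfour hm hc
  · exact sixty GW hm hc

end Cfsg.Agent.H84.HallNum
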