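import Cfsg.Agent.H84.HallNum.Basic
import Cfsg.Agent.H75.Basic
import Cfsg.Agent.Coprime.Basic

/-!
# Hall numbers: the local subgroup supplied by Frobenius' criterion
-/

set_option autoImplicit false

namespace Cfsg.Agent.H84.HallNum

open Subgroup

universe u

variable {G : Type u} [Group G] [Finite G]

local instance : Fact (Nat.Prime 2) := ⟨Nat.prime_two⟩

/-- Without a normal 2-complement, some odd prime power element normalizes and fails to centralize
a subgroup of a given Sylow 2-subgroup. -/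
theorem exists_local (S : Sylow 2 G) (h : ¬ HasNormalPComplement 2 G) :
    ∃ U : Subgroup G, U ≤ (S : Subgroup G) ∧ ∃ (g : G) (r k : ℕ), g ∈ normalizer (U : Set G) ∧
      r.Prime ∧ r ≠ 2 ∧ orderOf g = r ^ k ∧ g ∉ centralizer (U : Set G) := by
  rw [Fusion.frobenius_criterion S] at h
  push Not at h
  obtain ⟨U, hU, g, hgN, hg2, hgC⟩ := h
  refine ⟨U, hU, ?_⟩
  by_contra hcon
  refine hgC (H75.mem_of_primePower_parts _ g fun y hy ⟨r, k, hr, hk⟩ => ?_)
  by_contra hyC
  rcases Nat.eq_zero_or_pos k with hk0 | hk0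
  · rw [hk0, pow_zero, orderOf_eq_one_iff] at hk
    exact hyC (hk ▸ one_mem _)
  refine hcon ⟨y, r, k, zpowers_le.mpr hgN hy, hr, ?_, hk, hyC⟩
  intro h2
  have hd : orderOf y ∣ orderOf g := orderOf_dvd_of_mem_zpowers hy
  rw [hk, h2] at hd
  have : (2 : ℕ) ∣ orderOf g := (dvd_pow_self 2 hk0.ne').trans hd
  exact Nat.not_coprime_of_dvd_of_dvd (by norm_num) this dvd_rfl hg2

/-- Conjugation by the element of `zpowers g` on `U`. -/
theorem card_fixed {U : Subgroup G} {g : G} {r k : ℕ} (hr : r.Prime) (hg : g ∈ normalizer (U : Set G))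
    (hk : orderOf g = r ^ k) (hgC : g ∉ centralizer (U : Set G)) :
    ∃ f : ℕ, f ∣ Nat.card U ∧ f < Nat.card U ∧ f ≡ Nat.card U [MOD r] ∧
      (f = 1 → r + 1 = Nat.card U →
        ∀ x ∈ U, x ≠ 1 → ∀ y ∈ U, y ≠ 1 → ∃ i : ℕ, g ^ i * x * (g ^ i)⁻¹ = y) := by
  haveI : Fact r.Prime := ⟨hr⟩
  have hle : zpowers g ≤ normalizer (U : Set G) := zpowers_le.mpr hg
  let F : Subgroup G := U ⊓ centralizer {g}
  letI : MulAction (zpowers g) U := MulAction.compHom U (U.normalizerMonoidHom.comp (inclusion hle))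
  have hsmul : ∀ (z : zpowers g) (x : U), ((z • x : U) : G) = (z : G) * x * (z : G)⁻¹ := fun _ _ => rfl
  have hfix : Nat.card (MulAction.fixedPoints (zpowers g) U) = Nat.card F := by
    refine Nat.card_congr
      { toFun := fun x => ⟨((x : U) : G), (x : U).2, ?_⟩
        invFun := fun x => ⟨⟨x, x.2.1⟩, ?_⟩
        left_inv := fun x => rfl
        right_inv := fun x => rfl }
    · have := congrArg Subtype.val (x.2 ⟨g, mem_zpowers g⟩)
      rw [hsmul, mul_inv_eq_iff_eq_mul] at this
      exact mem_centralizer_singleton_iff.mpr this.symm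
    · intro z
      refine Subtype.ext ?_
      rw [hsmul, mul_inv_eq_iff_eq_mul]
      obtain ⟨i, hi⟩ := mem_zpowers_iff.mp z.2
      have hx : Commute (g : G) (x : G) := (mem_centralizer_singleton_iff.mp x.2.2).symm
      rw [← hi]
      exact hx.zpow_left i
  refine ⟨Nat.card F, card_dvd_of_le inf_le_left, ?_, ?_, ?_⟩
  · refine lt_of_le_of_ne (card_le_of_le inf_le_left) fun he => hgC ?_
    have := eq_of_le_of_card_ge (inf_le_left : F ≤ U) he.ge
    rw [mem_centralizer_iff]
    exact fun x hx => mem_centralizer_singleton_iff.mp (this.ge hx).2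
  · have hp : IsPGroup r (zpowers g) := IsPGroup.of_card (n := k) (by rw [Nat.card_zpowers, hk])
    exact hfix ▸ (hp.card_modEq_card_fixedPoints U).symm
  · intro hF hcard x hx hx1 y hy hy1
    classical
    haveI : Fintype U := Fintype.ofFinite U
    have hgi : ∀ i : ℕ, 0 < i → i < r → ∀ z ∈ U, g ^ i * z * (g ^ i)⁻¹ = z → z = 1 := by
      intro i hi0 hir z hz hzf
      have hcop : i.Coprime (orderOf g) := by
        rw [hk]
        exact (Nat.coprime_of_lt_prime hi0.ne' hir hr).symm.pow_right k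
      obtain ⟨b, hb⟩ := exists_pow_eq_self_of_coprime hcop
      have hc : Commute (g ^ i) z := mul_inv_eq_iff_eq_mul.mp hzf
      have hcg : Commute g z := hb ▸ hc.pow_left b
      have hzF : z ∈ F := ⟨hz, mem_centralizer_singleton_iff.mpr hcg.eq.symm⟩
      have hbot : F = ⊥ := card_eq_one.mp hF
      rw [hbot, mem_bot] at hzF
      exact hzF
    have hmem : ∀ i : ℕ, g ^ i * x * (g ^ i)⁻¹ ∈ U := fun i =>
      (mem_normalizer_iff.mp (pow_mem hg i) x).mp hx
    let φ : Fin r → {u : U // u ≠ 1} := fun i =>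
      ⟨⟨g ^ (i : ℕ) * x * (g ^ (i : ℕ))⁻¹, hmem i⟩, fun e => hx1 (by
        have h1 := congrArg Subtype.val e
        simpa using h1)⟩
    have hinj : Function.Injective φ := by
      have key : ∀ i j : ℕ, i < j → j < r → g ^ i * x * (g ^ i)⁻¹ ≠ g ^ j * x * (g ^ j)⁻¹ := by
        intro i j hij hjr e
        refine hx1 (hgi (j - i) (by omega) (by omega) x hx ?_)
        have : g ^ j = g ^ i * g ^ (j - i) := by rw [← pow_add]; congr 1; omega
        rw [this] at e
        have e' : g ^ i * x * (g ^ i)⁻¹ = g ^ i * (g ^ (j - i) * x * (g ^ (j - i))⁻¹) * (g ^ i)⁻¹ := by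
          rw [e]; group
        exact (mul_left_cancel (mul_right_cancel e')).symm
      intro i j e
      have e' : g ^ (i : ℕ) * x * (g ^ (i : ℕ))⁻¹ = g ^ (j : ℕ) * x * (g ^ (j : ℕ))⁻¹ :=
        congrArg (fun u => ((u.1 : U) : G)) e
      rcases lt_trichotomy (i : ℕ) (j : ℕ) with h | h | h
      · exact absurd e' (key _ _ h j.2)
      · exact Fin.ext h
      · exact absurd e'.symm (key _ _ h i.2)
    have hc2 : Fintype.card {u : U // u ≠ 1} = r := by
      rw [Fintype.card_subtype_compl, Fintype.card_subtype_eq, ← Nat.card_eq_fintype_card]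
      omega
    have hbij : Function.Bijective φ :=
      (Fintype.bijective_iff_injective_and_card φ).mpr ⟨hinj, by rw [hc2, Fintype.card_fin]⟩
    obtain ⟨i, hi⟩ := hbij.2 ⟨⟨y, hy⟩, fun e => hy1 (congrArg Subtype.val e)⟩
    exact ⟨i, congrArg (fun u => ((u.1 : U) : G)) hi⟩

/-- A group of 2-power order on which some automorphism is transitive on non-identity elements
has exponent two. -/
theorem sq_eq_one_of_transitive {U : Subgroup G} (h2 : 2 ∣ Nat.card U) {g : G}
    (h : ∀ x ∈ U, x ≠ 1 → ∀ y ∈ U, y ≠ 1 → ∃ i : ℕ, g ^ i * x * (g ^ i)⁻¹ = y) :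
    ∀ y ∈ U, y ^ 2 = 1 := by
  intro y hy
  obtain ⟨t, ht⟩ := exists_prime_orderOf_dvd_card' 2 h2
  have ht2 : (t : G) ^ 2 = 1 := by rw [← SubmonoidClass.coe_pow, ← ht, pow_orderOf_eq_one]; rfl
  by_cases hy1 : y = 1
  · simp [hy1]
  obtain ⟨i, hi⟩ := h t t.2 (fun e => by
    rw [show t = 1 from Subtype.ext e, orderOf_one] at ht; omega) y hy hy1
  rw [← hi, conj_pow, ht2, mul_one, mul_inv_cancel]

theorem klein_of_local {U : Subgroup G} {g : G} {r k : ℕ} (hr : r.Prime) (hr2 : r ≠ 2)
    (hg : g ∈ normalizer (U : Set G)) (hk : orderOf g = r ^ k) (hgC : g ∉ centralizer (U : Set G))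
    (hU : Nat.card U ∣ 4) : r = 3 ∧ Nat.card U = 4 ∧ IsKleinFour U := by
  obtain ⟨f, hf, hflt, hmod, htr⟩ := card_fixed hr hg hk hgC
  have hd : r ∣ Nat.card U - f := (Nat.modEq_iff_dvd' hflt.le).mp hmod
  have hr3 : 3 ≤ r := by have := hr.two_le; omega
  obtain ⟨j, hj, he⟩ := (Nat.dvd_prime_pow Nat.prime_two).mp (show Nat.card U ∣ 2 ^ 2 from hU)
  interval_cases j <;> simp only [Nat.reducePow] at he <;> rw [he] at hf hflt hd htr
  · have hf1 := Nat.pos_of_dvd_of_pos hf (by norm_num)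
    omega
  · have hf1 := Nat.pos_of_dvd_of_pos hf (by norm_num)
    interval_cases f
    have := Nat.le_of_dvd (by norm_num) hd
    omega
  · have hf1 := Nat.pos_of_dvd_of_pos hf (by norm_num)
    interval_cases f
    · have h3 := Nat.le_of_dvd (by norm_num) hd
      have hr' : r = 3 := by omega
      subst hr'
      have hsq := sq_eq_one_of_transitive (U := U) (g := g) (by rw [he]; norm_num)
        (htr rfl rfl)
      refine ⟨rfl, he, ⟨he, ?_⟩⟩
      haveI : Nontrivial U := Finite.one_lt_card_iff_nontrivial.mp (by omega)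
      exact (Nat.prime_two.eq_one_or_self_of_dvd _ (Monoid.exponent_dvd_of_forall_pow_eq_one
        fun u => Subtype.ext (hsq u u.2))).resolve_left (by
          rw [Monoid.exp_eq_one_iff]; exact not_subsingleton _)
    · have h3 := Nat.le_of_dvd (by norm_num) hd
      omega
    · omega

theorem local_of_card_eight {U : Subgroup G} {g : G} {r k : ℕ} (hr : r.Prime) (hr2 : r ≠ 2)
    (hg : g ∈ normalizer (U : Set G)) (hk : orderOf g = r ^ k) (hgC : g ∉ centralizer (U : Set G))
    (hU : Nat.card U = 8) : r = 3 ∨ (r = 7 ∧ (∀ y ∈ U, y ^ 2 = 1) ∧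
      ∀ x ∈ U, x ≠ 1 → ∀ y ∈ U, y ≠ 1 → ∃ i : ℕ, g ^ i * x * (g ^ i)⁻¹ = y) := by
  obtain ⟨f, hf, hflt, hmod, htr⟩ := card_fixed hr hg hk hgC
  have hd : r ∣ Nat.card U - f := (Nat.modEq_iff_dvd' hflt.le).mp hmod
  have hr3 : 3 ≤ r := by have := hr.two_le; omega
  rw [hU] at hf hflt hd htr
  have hf1 := Nat.pos_of_dvd_of_pos hf (by norm_num)
  interval_cases f <;> norm_num at hd hf
  · obtain rfl := (Nat.prime_dvd_prime_iff_eq hr (by norm_num : Nat.Prime 7)).mp hd
    exact Or.inr ⟨rfl, sq_eq_one_of_transitive (by rw [hU]; norm_num) (htr rfl rfl), htr rfl rfl⟩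
  · left
    rcases (hr.dvd_mul).mp (show r ∣ 2 * 3 from hd) with h | h
    · exact absurd ((Nat.prime_dvd_prime_iff_eq hr Nat.prime_two).mp h) hr2
    · exact (Nat.prime_dvd_prime_iff_eq hr Nat.prime_three).mp h
  · have := Nat.le_of_dvd (by norm_num) hd
    rcases (show r = 3 ∨ r = 4 by omega) with rfl | rfl
    · norm_num at hd
    · norm_num at hr

theorem orderOf_eq_three {g : G} {k : ℕ} (hk : orderOf g = 3 ^ k) (h9 : ¬ 9 ∣ Nat.card G)
    {U : Subgroup G} (hgC : g ∉ centralizer (U : Set G)) : orderOf g = 3 := by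
  rcases k with _ | _ | k
  · rw [pow_zero, orderOf_eq_one_iff] at hk
    exact absurd (hk ▸ one_mem _) hgC
  · simpa using hk
  · exact absurd ((Dvd.intro (3 ^ k) (by rw [hk]; ring)).trans (orderOf_dvd_natCard g)) h9

/-- The subgroup generated by a normalized subgroup and an element of coprime order. -/
theorem exists_extension {U : Subgroup G} {g : G} (hg : g ∈ normalizer (U : Set G))
    (hc : (Nat.card U).Coprime (orderOf g)) :
    ∃ H : Subgroup G, Nat.card H = Nat.card U * orderOf g := by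
  refine ⟨U ⊔ zpowers g, ?_⟩
  rw [← Nat.card_zpowers]
  exact (Coprime.card_sup (zpowers_le.mpr hg)
    (inf_eq_bot_of_coprime (by rw [Nat.card_zpowers]; exact hc)))

end Cfsg.Agent.H84.HallNum
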