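import Mathlib.NumberTheory.LSeries.PrimesInAP
import Mathlib.Data.Nat.Factorization.Basic
import Cfsg.Agent.Linear.Dickson.Orders
import Cfsg.Agent.S0799

/-!
# Hall numbers: the groups `PSL(2,r)` that show the necessity of the condition

For `m = A * B` with coprime `A`, `B` and a prime `r` with `r + 1` exactly divisible by `A`
and `r - 1` exactly divisible by `B`, the number `m` is a unitary divisor of the order of
`PSL(2,r)`, and no subgroup has order `m`.
-/

namespace Cfsg.Agent.H84.HallNum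

/-- A prime `r` with prescribed behaviour of `r + 1` and `r - 1`. -/
theorem exists_prime {A B : ℕ} (hA : 2 ≤ A) (hB : 2 ≤ B) (hAB : A.Coprime B) (n : ℕ) :
    ∃ r, n < r ∧ r.Prime ∧ ∃ X Y : ℕ, r + 1 = A * X ∧ r = B * Y + 1 ∧
      X.Coprime A ∧ Y.Coprime B := by
  obtain ⟨c, hc1, hc2⟩ := Nat.chineseRemainder (n := A ^ 2) (m := B ^ 2) (hAB.pow 2 2) (A - 1) (B + 1)
  have hcop : c.Coprime (A ^ 2 * B ^ 2) := by
    refine Nat.Coprime.mul_right ?_ ?_
    · rw [Nat.Coprime, hc1.gcd_eq]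
      refine Nat.Coprime.pow_right 2 ?_
      rw [Nat.coprime_self_sub_left (by omega)]
      exact Nat.coprime_one_left A
    · rw [Nat.Coprime, hc2.gcd_eq]
      refine Nat.Coprime.pow_right 2 ?_
      simp
  have hq : A ^ 2 * B ^ 2 ≠ 0 := by positivity
  obtain ⟨r, hr, hrp, hrc⟩ := Nat.forall_exists_prime_gt_and_modEq n hq hcop
  refine ⟨r, hr, hrp, ?_⟩
  have h1 : r + 1 ≡ A [MOD A ^ 2] := by
    have := ((hrc.of_mul_right (B ^ 2)).trans hc1).add_right 1
    rwa [Nat.sub_add_cancel (by omega : 1 ≤ A)] at this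
  have h2 : r ≡ B + 1 [MOD B ^ 2] := (hrc.of_mul_left (A ^ 2)).trans hc2
  have hB2 : B + 1 < B ^ 2 := by nlinarith
  have hA2 : A < A ^ 2 := by nlinarith
  have e1 : (r + 1) % A ^ 2 = A := by
    rw [h1]; exact Nat.mod_eq_of_lt hA2
  have e2 : r % B ^ 2 = B + 1 := by
    rw [h2]; exact Nat.mod_eq_of_lt hB2
  refine ⟨A * ((r + 1) / A ^ 2) + 1, B * (r / B ^ 2) + 1, ?_, ?_, ?_, ?_⟩
  · have := Nat.div_add_mod (r + 1) (A ^ 2)
    rw [e1] at this
    linarith [this, sq A, show A * (A * ((r + 1) / A ^ 2) + 1) = A ^ 2 * ((r + 1) / A ^ 2) + A by ring]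
  · have := Nat.div_add_mod r (B ^ 2)
    rw [e2] at this
    linarith [this, show B * (B * (r / B ^ 2) + 1) = B ^ 2 * (r / B ^ 2) + B by ring]
  · simp
  · simp

/-- Divisibility facts for the counterexample. -/
theorem arith {A B r X Y c m : ℕ} (hA : 2 ≤ A) (hA4 : Odd A ∨ 4 ∣ A) (hBodd : Odd B) (hB : 2 ≤ B)
    (hm : m = A * B) (hX : r + 1 = A * X) (hY : r = B * Y + 1) (hXA : X.Coprime A) (hYB : Y.Coprime B)
    (hrp : r.Prime) (hrm : m < r) (hc : 2 * (m * c) = r * (r + 1) * (r - 1)) :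
    m.Coprime c ∧ ¬ m ∣ r + 1 ∧ ¬ m ∣ r - 1 := by
  have hY' : r - 1 = B * Y := by omega
  have hm0 : 0 < m := by rw [hm]; positivity
  have h2c : 2 * c = r * X * Y := by
    rw [hY', hX, hm] at hc
    have : A * B * (2 * c) = A * B * (r * X * Y) := by ring_nf; ring_nf at hc; linarith
    exact Nat.eq_of_mul_eq_mul_left (by positivity) this
  refine ⟨?_, ?_, ?_⟩
  · refine Nat.coprime_of_dvd fun s hs hsm hsc => ?_
    have hsd : s ∣ r * X * Y := h2c ▸ dvd_mul_of_dvd_right hsc 2
    have hsr : s ≠ r := fun e => by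
      have := Nat.le_of_dvd hm0 hsm
      omega
    have hnr : ¬ s ∣ r := fun h => hsr ((Nat.prime_dvd_prime_iff_eq hs hrp).mp h)
    rw [hm] at hsm
    rcases (Nat.Prime.dvd_mul hs).mp hsd with h | hsY
    · rcases (Nat.Prime.dvd_mul hs).mp h with h' | hsX
      · exact hnr h'
      · rcases (Nat.Prime.dvd_mul hs).mp hsm with hsA | hsB
        · exact hs.one_lt.ne' (Nat.dvd_one.mp (hXA ▸ Nat.dvd_gcd hsX hsA))
        · have h1 : s ∣ r + 1 := hX ▸ dvd_mul_of_dvd_right hsX A
          have h2 : s ∣ r - 1 := hY' ▸ dvd_mul_of_dvd_left hsB Y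
          have h3 : s ∣ 2 := by
            have := Nat.dvd_sub h1 h2
            rwa [show r + 1 - (r - 1) = 2 by have := hrp.two_le; omega] at this
          rw [(Nat.prime_dvd_prime_iff_eq hs Nat.prime_two).mp h3] at hsB
          exact (Nat.not_even_iff_odd.mpr hBodd) (even_iff_two_dvd.mpr hsB)
    · rcases (Nat.Prime.dvd_mul hs).mp hsm with hsA | hsB
      · have h1 : s ∣ r + 1 := hX ▸ dvd_mul_of_dvd_left hsA X
        have h2 : s ∣ r - 1 := hY' ▸ dvd_mul_of_dvd_right hsY B
        have h3 : s ∣ 2 := by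
          have := Nat.dvd_sub h1 h2
          rwa [show r + 1 - (r - 1) = 2 by have := hrp.two_le; omega] at this
        have e2 : s = 2 := (Nat.prime_dvd_prime_iff_eq hs Nat.prime_two).mp h3
        subst e2
        -- `r - 1` is divisible by four
        have hX2 : ¬ 2 ∣ X := fun h => absurd (Nat.dvd_one.mp (hXA ▸ Nat.dvd_gcd h hsA)) (by norm_num)
        have hr2 : ¬ 2 ∣ r := hnr
        have h4 : 2 * 2 ∣ r * X * Y := h2c ▸ mul_dvd_mul_left 2 hsc
        have h4' : 4 ∣ Y := by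
          have hco : Nat.Coprime 4 (r * X) := by
            rw [show (4 : ℕ) = 2 ^ 2 from rfl]
            exact Nat.Coprime.pow_left 2 ((Nat.Prime.coprime_iff_not_dvd Nat.prime_two).mpr
              (fun h => ((Nat.Prime.dvd_mul Nat.prime_two).mp h).elim hr2 hX2))
          exact hco.dvd_of_dvd_mul_left (by simpa using h4)
        have h5 : 4 ∣ r - 1 := hY' ▸ dvd_mul_of_dvd_right h4' B
        -- and `r + 1` is even, so `A` is twice an odd number
        have h6 : ¬ 4 ∣ r + 1 := fun h => by omega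
        have h7 : ¬ 4 ∣ A := fun h => h6 (hX ▸ dvd_mul_of_dvd_left h X)
        rcases hA4 with h | h
        · exact (Nat.not_even_iff_odd.mpr h) (even_iff_two_dvd.mpr hsA)
        · exact h7 h
      · exact hs.one_lt.ne' (Nat.dvd_one.mp (hYB ▸ Nat.dvd_gcd hsY hsB))
  · intro h
    have h1 : B ∣ r + 1 := dvd_trans ⟨A, by rw [hm]; ring⟩ h
    have h2 : B ∣ r - 1 := hY' ▸ dvd_mul_right B Y
    have h3 : B ∣ 2 := by
      have := Nat.dvd_sub h1 h2
      rwa [show r + 1 - (r - 1) = 2 by have := hrp.two_le; omega] at this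
    have := Nat.le_of_dvd (by norm_num) h3
    obtain ⟨k, hk⟩ := hBodd
    omega
  · intro h
    have h1 : A ∣ r - 1 := dvd_trans ⟨B, by rw [hm]⟩ h
    have h2 : A ∣ r + 1 := hX ▸ dvd_mul_right A X
    have h3 : A ∣ 2 := by
      have := Nat.dvd_sub h2 h1
      rwa [show r + 1 - (r - 1) = 2 by have := hrp.two_le; omega] at this
    have := Nat.le_of_dvd (by norm_num) h3
    rcases hA4 with ⟨k, hk⟩ | ⟨k, hk⟩ <;> omega

/-- The normaliser of a Sylow `r`-subgroup of `PSL(2,r)`. -/
theorem card_normalizer_sylow {r : ℕ} [Fact r.Prime] (hr5 : 5 ≤ r)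
    (hN : 2 * Nat.card (Matrix.ProjectiveSpecialLinearGroup (Fin 2) (ZMod r)) = r * ((r + 1) * (r - 1)))
    (P : Sylow r (Matrix.ProjectiveSpecialLinearGroup (Fin 2) (ZMod r))) :
    2 * Nat.card (Subgroup.normalizer
      ((P : Subgroup (Matrix.ProjectiveSpecialLinearGroup (Fin 2) (ZMod r))) :
        Set (Matrix.ProjectiveSpecialLinearGroup (Fin 2) (ZMod r)))) = r * (r - 1) := by
  set G := Matrix.ProjectiveSpecialLinearGroup (Fin 2) (ZMod r)
  haveI : IsSimpleGroup G :=
    Matrix.ProjectiveSpecialLinearGroup.rank_two_simple (by rw [Nat.card_zmod]; omega)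
  set N := Subgroup.normalizer ((P : Subgroup G) : Set G)
  have hr : r.Prime := Fact.out
  have hrG : r ∣ Nat.card G := by
    have : r ∣ 2 * Nat.card G := hN ▸ dvd_mul_right r _
    rcases (Nat.Prime.dvd_mul hr).mp this with h | h
    · have := Nat.le_of_dvd two_pos h; omega
    · exact h
  have hP1 : (P : Subgroup G) ≠ ⊥ := P.ne_bot_of_dvd_card hrG
  have hPN : r ∣ Nat.card N := dvd_trans (P.dvd_card_of_dvd_card hrG)
    (Subgroup.card_dvd_of_le Subgroup.le_normalizer)
  obtain ⟨j, hj⟩ := hPN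
  have hmod : N.index ≡ 1 [MOD r] := by
    have := card_sylow_modEq_one r G
    rw [Sylow.card_eq_index_normalizer P] at this
    exact this
  have hmul : 2 * j * N.index = (r + 1) * (r - 1) := by
    have := N.card_mul_index
    rw [hj] at this
    refine Nat.eq_of_mul_eq_mul_left hr.pos ?_
    rw [← hN, ← this]
    ring
  have hn1 : N.index ≠ 1 := by
    intro h
    have hn : (P : Subgroup G).Normal := Subgroup.normalizer_eq_top_iff.mp (Subgroup.index_eq_one.mp h)
    rcases hn.eq_bot_or_eq_top with h' | h'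
    · exact hP1 h'
    · have hc : Nat.card G = r ^ ((Nat.card G).factorization r) := by
        rw [← P.card_eq_multiplicity, h', Subgroup.card_top]
      obtain ⟨k, hk⟩ : ∃ k, r + 1 = 2 * k := by
        rcases hr.eq_two_or_odd' with h | ⟨k, hk⟩
        · omega
        · exact ⟨k + 1, by omega⟩
      have hd : k ∣ Nat.card G := by
        refine Dvd.intro_left (r * (r - 1)) ?_
        have : 2 * Nat.card G = 2 * (r * (r - 1) * k) := by rw [hN, hk]; ring
        omega
      rw [hc] at hd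
      obtain ⟨i, -, hi⟩ := (Nat.dvd_prime_pow hr).mp hd
      rcases Nat.eq_zero_or_pos i with rfl | hi0
      · simp at hi; omega
      · have : r ∣ k := hi ▸ dvd_pow_self r hi0.ne'
        have := Nat.le_of_dvd (by omega) this
        omega
  have hge : r + 1 ≤ N.index := by
    obtain ⟨k, hk⟩ : ∃ k, N.index = r * k + 1 := by
      refine ⟨N.index / r, ?_⟩
      have h := Nat.div_add_mod N.index r
      rw [show N.index % r = 1 by rw [hmod]; exact Nat.mod_eq_of_lt hr.one_lt] at h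
      omega
    rcases Nat.eq_zero_or_pos k with rfl | hk0
    · omega
    · nlinarith
  have hle : 2 * j ≤ r - 1 := by
    by_contra h
    have : (r + 1) * r ≤ N.index * (2 * j) := Nat.mul_le_mul hge (by omega)
    have h2 : (r + 1) * (r - 1) < (r + 1) * r := Nat.mul_lt_mul_of_pos_left (by omega) (by omega)
    rw [← hmul] at h2
    rw [mul_comm N.index] at this
    omega
  have hcong : (2 * j + 1) % r = 0 := by
    have e : (((2 * j * N.index : ℕ)) : ZMod r) = (((r + 1) * (r - 1) : ℕ) : ZMod r) := by rw [hmul]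
    have e' : ((N.index : ℕ) : ZMod r) = 1 := by
      have := (ZMod.natCast_eq_natCast_iff _ _ r).mpr hmod
      simpa using this
    push_cast [Nat.cast_sub hr.one_le] at e
    rw [e', ZMod.natCast_self] at e
    have : (((2 * j + 1 : ℕ)) : ZMod r) = 0 := by push_cast; linear_combination e
    exact Nat.mod_eq_zero_of_dvd ((ZMod.natCast_eq_zero_iff _ _).mp this)
  have hj' : 2 * j + 1 = r := by
    obtain ⟨c, hc⟩ := Nat.dvd_of_mod_eq_zero hcong
    rcases c with _ | _ | c
    · omega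
    · omega
    · have : r * (c + 1 + 1) ≥ r * 2 := Nat.mul_le_mul_left r (by omega)
      omega
  rw [hj, show r - 1 = 2 * j by omega]
  ring

/-- No subgroup of `PSL(2,r)` has order `m`, for suitable `r`. -/
theorem exists_counterexample {m A B : ℕ} (hA : 2 ≤ A) (hA4 : Odd A ∨ 4 ∣ A) (hBodd : Odd B)
    (hB : 2 ≤ B) (hAB : A.Coprime B) (hm : m = A * B) (h12 : m ≠ 12) (h24 : m ≠ 24) (h60 : m ≠ 60) :
    ∃ (G : Type) (_ : Group G) (_ : Finite G), m ∣ Nat.card G ∧ m.Coprime (Nat.card G / m) ∧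
      ∀ H : Subgroup G, Nat.card H ≠ m := by
  obtain ⟨r, hr, hrp, X, Y, hX, hY, hXA, hYB⟩ := exists_prime hA hB hAB (m + 5)
  haveI : Fact r.Prime := ⟨hrp⟩
  have hm0 : 0 < m := by rw [hm]; positivity
  set G := Matrix.ProjectiveSpecialLinearGroup (Fin 2) (ZMod r)
  have hr2 : r % 2 = 1 := (hrp.eq_two_or_odd).resolve_left (by omega)
  have hg : Nat.gcd 2 (r - 1) = 2 := Nat.gcd_eq_left (by omega)
  have hGc : 2 * Nat.card G = r * ((r + 1) * (r - 1)) := by
    have h := Cfsg.Agent.Linear.card_PSL_two_mul (F := ZMod r)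
    rw [ZMod.card, hg] at h
    rw [h, show r ^ 2 - 1 = (r + 1) * (r - 1) by
      simpa using Nat.sq_sub_sq r 1]
  -- `m` divides the order
  have hprod : 2 * Nat.card G = m * (r * X * Y) := by
    rw [hGc, hX, hm, show r - 1 = B * Y by omega]; ring
  obtain ⟨c, hcard⟩ : m ∣ Nat.card G := by
    rcases hA4 with hAo | hA4
    · exact (Nat.Coprime.dvd_of_dvd_mul_left
        ((Nat.coprime_two_right.mpr (hm ▸ hAo.mul hBodd))) (Dvd.intro _ hprod.symm))
    · have hYev : 2 ∣ Y := by
        have h : 2 ∣ B * Y := by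
          rw [← show r - 1 = B * Y by omega]
          exact Nat.dvd_of_mod_eq_zero (by omega)
        exact (Nat.Coprime.dvd_of_dvd_mul_left (Nat.coprime_two_left.mpr hBodd) h)
      obtain ⟨y, rfl⟩ := hYev
      exact ⟨r * X * y, Nat.eq_of_mul_eq_mul_left two_pos (by rw [hprod]; ring)⟩
  obtain ⟨hco, hnp, hnm⟩ := arith hA hA4 hBodd hB hm hX hY hXA hYB hrp (by omega)
    (c := c) (by rw [← hcard, hGc]; ring)
  refine ⟨G, inferInstance, inferInstance, Dvd.intro c hcard.symm, ?_, fun H hH => ?_⟩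
  · rwa [hcard, Nat.mul_div_cancel_left _ hm0]
  have hrm : ¬ r ∣ m := fun h => by have := Nat.le_of_dvd hm0 h; omega
  rcases Cfsg.Agent.S0799.result (q := r) (ZMod.card r) r H with
    ⟨k, hk, hcd⟩ | ⟨P, K, hK, ⟨e⟩⟩ | ⟨⟨e⟩⟩ | ⟨⟨e⟩⟩ | ⟨⟨e⟩⟩ | ⟨K, _, _, i, hKi, hiso⟩
  · rw [hg] at hk
    have h2k : k ∣ r + 1 ∧ 2 * k ∣ r + 1 ∨ k ∣ r - 1 ∧ 2 * k ∣ r - 1 := by
      rcases hk with hk | hk
      · have h := Nat.mul_dvd_mul_left 2 hk
        rw [Nat.mul_div_cancel' (by omega)] at h
        exact Or.inl ⟨(dvd_mul_left k 2).trans h, h⟩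
      · have h := Nat.mul_dvd_mul_left 2 hk
        rw [Nat.mul_div_cancel' (by omega)] at h
        exact Or.inr ⟨(dvd_mul_left k 2).trans h, h⟩
    rcases hcd with ⟨-, hk'⟩ | ⟨⟨e⟩⟩
    · rw [hH] at hk'; subst hk'
      rcases h2k with h | h
      · exact hnp h.1
      · exact hnm h.1
    · have hk' : m = 2 * k := by rw [← hH, Nat.card_congr e.toEquiv, DihedralGroup.nat_card]
      rw [← hk'] at h2k
      rcases h2k with h | h
      · exact hnp h.2
      · exact hnm h.2
  · have h := Subgroup.card_dvd_of_le hK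
    rw [← Nat.card_congr e.toEquiv, hH] at h
    have h' := dvd_mul_of_dvd_right h 2
    rw [card_normalizer_sylow (by omega) hGc P] at h'
    exact hnm ((Nat.Coprime.dvd_of_dvd_mul_left
      ((Nat.Prime.coprime_iff_not_dvd hrp).mpr hrm).symm) h')
  · apply h12
    rw [← hH, Nat.card_congr e.toEquiv, nat_card_alternatingGroup, Nat.card_fin]
    rfl
  · apply h24
    rw [← hH, Nat.card_congr e.toEquiv, Nat.card_perm, Nat.card_fin]
    rfl
  · apply h60
    rw [← hH, Nat.card_congr e.toEquiv, nat_card_alternatingGroup, Nat.card_fin]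
    rfl
  · obtain ⟨hKr, hi1⟩ := hrp.pow_eq_iff.mp hKi
    have hKr' : Fintype.card K = r := hKr
    apply hrm
    have hdiv : r ∣ Nat.card (Matrix.ProjectiveSpecialLinearGroup (Fin 2) K) := by
      have h := Cfsg.Agent.Linear.card_PSL_two_mul (F := K)
      rw [hKr', hg] at h
      rcases (Nat.Prime.dvd_mul hrp).mp (Dvd.intro _ h.symm) with h' | h'
      · have := Nat.le_of_dvd two_pos h'; omega
      · exact h'
    rcases hiso with ⟨⟨e⟩⟩ | ⟨⟨e⟩⟩
    · rw [← hH, Nat.card_congr e.toEquiv]; exact hdiv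
    · rw [← hH, Nat.card_congr e.toEquiv]
      exact hdiv.trans (Subgroup.card_dvd_of_injective _ Matrix.ProjectiveSpecialLinearGroup.toPGL_injective)

end Cfsg.Agent.H84.HallNum
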