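import Cfsg.Agent.H84.HallNum.If
import Cfsg.Agent.H84.HallNum.OnlyIf

/-!
# Hall numbers: the equivalence, given the four-group case of Gorenstein–Walter
-/

set_option autoImplicit false

namespace Cfsg.Agent.H84.HallNum

/-- The form of the dihedral Sylow theorem needed. -/
theorem kleinPerfect_of
    (h : ∀ (X : Type) [Group X] [Finite X] [Group.IsPerfect X] (S : Sylow 2 X) (n : ℕ), 2 ≤ n →
      Nonempty ((S : Subgroup X) ≃* DihedralGroup n) →
      (∃ (F : Type) (_ : Field F) (_ : Fintype F), Odd (Fintype.card F) ∧ 3 < Fintype.card F ∧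
          Nonempty (X ⧸ Cfsg.oddCore X ≃* Matrix.ProjectiveSpecialLinearGroup (Fin 2) F)) ∨
        Nonempty (X ⧸ Cfsg.oddCore X ≃* alternatingGroup (Fin 7))) :
    KleinPerfect.{0} := by
  intro X _ _ hX hO S hS
  haveI := hX
  haveI := hS
  let e : X ≃* X ⧸ Cfsg.oddCore X :=
    ((QuotientGroup.quotientMulEquivOfEq hO).trans QuotientGroup.quotientBot).symm
  rcases h X S 2 le_rfl IsKleinFour.nonempty_mulEquiv with ⟨F, i1, i2, h1, h2, ⟨f⟩⟩ | ⟨⟨f⟩⟩
  · exact Or.inl ⟨F, i1, i2, h1, h2, ⟨e.trans f⟩⟩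
  · exact Or.inr ⟨e.trans f⟩

/-- The theorem on Hall numbers. -/
theorem main (GW : KleinPerfect.{0}) (m : ℕ) (hm : 2 ≤ m) :
    (∀ (G : Type) [Group G] [Finite G], m ∣ Nat.card G → m.Coprime (Nat.card G / m) →
        ∃ H : Subgroup G, Nat.card H = m) ↔
    (IsPrimePow m ∨ m % 4 = 2 ∨ m = 12 ∨ m = 24 ∨ m = 60) := by
  refine ⟨fun h => ?_, fun h G _ _ h1 h2 => exists_of_condition GW h h1 h2⟩
  by_contra hcon
  push Not at hcon
  obtain ⟨hpp, h4, h12, h24, h60⟩ := hcon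
  obtain ⟨p, hp, hpm, hodd, hmin⟩ :
      ∃ p, p.Prime ∧ p ∣ m ∧ (p = 2 → 4 ∣ m) ∧ (2 ∣ m → p = 2) := by
    by_cases h2 : 2 ∣ m
    · exact ⟨2, Nat.prime_two, h2, fun _ => by omega, fun _ => rfl⟩
    · obtain ⟨p, hp, hpm⟩ := Nat.exists_prime_and_dvd (n := m) (by omega)
      exact ⟨p, hp, hpm, fun e => absurd (e ▸ hpm) h2, fun h => absurd h h2⟩
  set v := m.factorization p
  have hv : 0 < v := hp.factorization_pos_of_dvd (by omega) hpm
  have hmul : m = p ^ v * (m / p ^ v) := (Nat.mul_div_cancel' (Nat.ordProj_dvd m p)).symm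
  have hcop : (p ^ v).Coprime (m / p ^ v) :=
    (Nat.coprime_ordCompl hp (by omega)).pow_left v
  have hA : 2 ≤ p ^ v := le_trans hp.two_le (Nat.le_self_pow hv.ne' p)
  have hB : 2 ≤ m / p ^ v := by
    generalize m / p ^ v = B at hmul
    rcases B with _ | _ | B
    · rw [mul_zero] at hmul; omega
    · rw [Nat.zero_add, mul_one] at hmul
      exact absurd ((isPrimePow_nat_iff m).mpr ⟨p, v, hp, hv, hmul.symm⟩) hpp
    · omega
  have hBodd : Odd (m / p ^ v) := by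
    refine Nat.not_even_iff_odd.mp fun he => ?_
    by_cases hp2 : p = 2
    · exact Nat.not_coprime_of_dvd_of_dvd (d := 2) (by norm_num)
        (hp2 ▸ dvd_pow_self p hv.ne') he.two_dvd hcop
    · exact hp2 (hmin (he.two_dvd.trans (Nat.div_dvd_of_dvd (Nat.ordProj_dvd m p))))
  have hA4 : Odd (p ^ v) ∨ 4 ∣ p ^ v := by
    by_cases hp2 : p = 2
    · refine Or.inr ?_
      subst hp2
      exact ((Nat.coprime_comm.mp (Nat.coprime_two_left.mpr hBodd)).pow_right 2).symm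
        |>.dvd_of_dvd_mul_right (hmul ▸ hodd rfl)
    · exact Or.inl ((hp.odd_of_ne_two hp2).pow)
  obtain ⟨G, _, _, h1, h2, h3⟩ := exists_counterexample hA hA4 hBodd hB hcop hmul h12 h24 h60
  obtain ⟨H, hH⟩ := h G h1 h2
  exact h3 H hH

end Cfsg.Agent.H84.HallNum
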