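import Cfsg.Agent.H84.HallNum.Local
import Cfsg.Agent.H39.FusionShape.Shape
import Cfsg.Agent.H70.Balanced.Rows
import Cfsg.Agent.Linear.Order
import Cfsg.Agent.S0084
import Cfsg.Agent.S1230
import Cfsg.Agent.S1221

/-!
# Hall numbers 12 and 24
-/

set_option autoImplicit false

namespace Cfsg.Agent.H84.HallNum

open Subgroup

universe u

variable {G : Type u} [Group G] [Finite G]

local instance : Fact (Nat.Prime 2) := ⟨Nat.prime_two⟩

theorem isKleinFour_congr {A B : Type*} [Group A] [Group B] (e : A ≃* B) (h : IsKleinFour A) :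
    IsKleinFour B :=
  ⟨by rw [← Nat.card_congr e.toEquiv]; exact h.card_four,
    by rw [← Monoid.exponent_eq_of_mulEquiv e]; exact h.exponent_two⟩

theorem sylow_card {a : ℕ} (S : Sylow 2 G) (h1 : 2 ^ a ∣ Nat.card G)
    (h2 : ¬ 2 ^ (a + 1) ∣ Nat.card G) : Nat.card (S : Subgroup G) = 2 ^ a := by
  rw [S.card_eq_multiplicity]
  congr 1
  refine le_antisymm ?_ ((Nat.prime_two.pow_dvd_iff_le_factorization Nat.card_pos.ne').mp h1)
  by_contra hlt
  exact h2 ((Nat.prime_two.pow_dvd_iff_le_factorization Nat.card_pos.ne').mpr (by omega))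

theorem exact_twelve {n : ℕ} (hm : 12 ∣ n) (hc : Nat.Coprime 12 (n / 12)) :
    ¬ 8 ∣ n ∧ ¬ 9 ∣ n := by
  obtain ⟨q, rfl⟩ := hm
  rw [Nat.mul_div_cancel_left q (by norm_num)] at hc
  have h2 : q % 2 ≠ 0 := fun h =>
    Nat.not_coprime_of_dvd_of_dvd (d := 2) (by norm_num) (by norm_num) (Nat.dvd_of_mod_eq_zero h) hc
  have h3 : q % 3 ≠ 0 := fun h =>
    Nat.not_coprime_of_dvd_of_dvd (d := 3) (by norm_num) (by norm_num) (Nat.dvd_of_mod_eq_zero h) hc
  constructor <;> omega

theorem exact_twentyfour {n : ℕ} (hm : 24 ∣ n) (hc : Nat.Coprime 24 (n / 24)) :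
    ¬ 16 ∣ n ∧ ¬ 9 ∣ n := by
  obtain ⟨q, rfl⟩ := hm
  rw [Nat.mul_div_cancel_left q (by norm_num)] at hc
  have h2 : q % 2 ≠ 0 := fun h =>
    Nat.not_coprime_of_dvd_of_dvd (d := 2) (by norm_num) (by norm_num) (Nat.dvd_of_mod_eq_zero h) hc
  have h3 : q % 3 ≠ 0 := fun h =>
    Nat.not_coprime_of_dvd_of_dvd (d := 3) (by norm_num) (by norm_num) (Nat.dvd_of_mod_eq_zero h) hc
  constructor <;> omega

theorem coprime_of_dvd_primes {m k : ℕ} (hm : m ∣ 2 ^ 3 * 3 * 5) (h2 : 2 ∣ m → ¬ 2 ∣ k)
    (h3 : 3 ∣ m → ¬ 3 ∣ k) (h5 : 5 ∣ m → ¬ 5 ∣ k) : k.Coprime m :=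
  Nat.coprime_of_dvd fun p hp ha hb => by
    rcases (hp.dvd_mul).mp (hb.trans hm) with h | h
    · rcases (hp.dvd_mul).mp h with h' | h'
      · obtain rfl := (Nat.prime_dvd_prime_iff_eq hp Nat.prime_two).mp (hp.dvd_of_dvd_pow h')
        exact h2 hb ha
      · obtain rfl := (Nat.prime_dvd_prime_iff_eq hp Nat.prime_three).mp h'
        exact h3 hb ha
    · obtain rfl := (Nat.prime_dvd_prime_iff_eq hp (by norm_num : Nat.Prime 5)).mp h
      exact h5 hb ha

theorem twelve (hm : 12 ∣ Nat.card G) (hc : Nat.Coprime 12 (Nat.card G / 12)) :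
    ∃ H : Subgroup G, Nat.card H = 12 ∧ Group.IsSolvable H := by
  obtain ⟨h8, h9⟩ := exact_twelve hm hc
  suffices h : ∃ H : Subgroup G, Nat.card H = 12 by
    obtain ⟨H, hH⟩ := h
    refine ⟨H, hH, ?_⟩
    by_cases hn : HasNormalPComplement 2 H
    · exact isSolvable_of_hasNormalPComplement hn
    let P : Sylow 2 H := default
    obtain ⟨U, hU, g, r, k, hg, hr, hr2, hk, hgC⟩ := exists_local P hn
    have hP : Nat.card (P : Subgroup H) = 4 :=
      sylow_card (a := 2) P (by rw [hH]; norm_num) (by rw [hH]; norm_num)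
    obtain ⟨rfl, hU4, hUk⟩ := klein_of_local hr hr2 hg hk hgC (hP ▸ card_dvd_of_le hU)
    have hgo := orderOf_eq_three hk (by rw [hH]; norm_num) hgC
    obtain ⟨K, hK⟩ := exists_extension hg (by rw [hU4, hgo]; norm_num)
    have hle : (⊤ : Subgroup H) ≤ normalizer (U : Set H) := by
      have hsup : Nat.card ↥(U ⊔ zpowers g) = 12 := by
        rw [Coprime.card_sup (zpowers_le.mpr hg)
          (inf_eq_bot_of_coprime (by rw [Nat.card_zpowers, hU4, hgo]; norm_num)),
          Nat.card_zpowers, hU4, hgo]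
      rw [← eq_top_of_card_eq _ (hsup.trans hH.symm)]
      exact sup_le le_normalizer (zpowers_le.mpr hg)
    haveI : U.Normal := normalizer_eq_top_iff.mp (top_le_iff.mp hle)
    refine isSolvable_of_normal U ?_ (isSolvable_of_not_four_dvd ?_)
    · exact isSolvable_of_two_group (IsPGroup.of_card (n := 2) (by rw [hU4]; norm_num))
    · intro h4
      have := card_eq_card_quotient_mul_card_subgroup U
      rw [hH, hU4] at this
      omega
  by_cases hn : HasNormalPComplement 2 G
  · haveI := isSolvable_of_hasNormalPComplement hn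
    exact exists_of_isSolvable hm hc
  let S : Sylow 2 G := default
  obtain ⟨U, hU, g, r, k, hg, hr, hr2, hk, hgC⟩ := exists_local S hn
  have hS : Nat.card (S : Subgroup G) = 4 :=
    sylow_card (a := 2) S ((show 2 ^ 2 ∣ 12 by norm_num).trans hm) h8
  obtain ⟨rfl, hU4, -⟩ := klein_of_local hr hr2 hg hk hgC (hS ▸ card_dvd_of_le hU)
  have hgo := orderOf_eq_three hk h9 hgC
  obtain ⟨K, hK⟩ := exists_extension hg (by rw [hU4, hgo]; norm_num)
  exact ⟨K, by rw [hK, hU4, hgo]⟩

theorem isSolvable_normalizer_klein {U : Subgroup G} (hU : IsKleinFour U)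
    (hC : Group.IsSolvable (centralizer (U : Set G))) :
    Group.IsSolvable (normalizer (U : Set G)) := by
  set N := normalizer (U : Set G)
  refine isSolvable_of_normal (G := N) U.normalizerMonoidHom.ker ?_ ?_
  · rw [U.normalizerMonoidHom_ker]
    exact Group.isSolvable_of_isSolvable_injective (f := (subgroupOfEquivOfLe
      (centralizer_le_normalizer (U : Set G))).toMonoidHom) (MulEquiv.injective _)
  · have hr : Nat.card U.normalizerMonoidHom.range ≤ 6 :=
      (card_le_card_group _).trans (H39.FusionShape.card_mulAut_klein hU)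
    have hs : Group.IsSolvable U.normalizerMonoidHom.range := by
      by_cases h4 : 4 ∣ Nat.card U.normalizerMonoidHom.range
      · refine isSolvable_of_two_group (IsPGroup.of_card (n := 2) ?_)
        have := Nat.card_pos (α := U.normalizerMonoidHom.range)
        omega
      · exact isSolvable_of_not_four_dvd h4
    exact Group.isSolvable_of_isSolvable_injective (f := (QuotientGroup.quotientKerEquivRange
      U.normalizerMonoidHom).toMonoidHom) (MulEquiv.injective _)

theorem isSolvable_centralizer_of_card_four {U : Subgroup G} (hU : IsKleinFour U)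
    (h16 : ¬ 16 ∣ Nat.card G) : Group.IsSolvable (centralizer (U : Set G)) := by
  set C := centralizer (U : Set G)
  have hUC : U ≤ C := fun x hx => mem_centralizer_iff.mpr fun y hy =>
    congrArg Subtype.val (hU.isMulCommutative.is_comm.comm (⟨y, hy⟩ : U) ⟨x, hx⟩)
  haveI : (U.subgroupOf C).Normal := ⟨fun x hx c => by
    have h1 := mem_centralizer_iff.mp c.2 (x : G) hx
    have : c * x * c⁻¹ = x := mul_inv_eq_iff_eq_mul.mpr (Subtype.ext h1.symm)
    rw [this]
    exact hx⟩
  have hcard : Nat.card (U.subgroupOf C) = 4 := by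
    rw [Nat.card_congr (subgroupOfEquivOfLe hUC).toEquiv]
    exact hU.card_four
  refine isSolvable_of_normal (U.subgroupOf C) ?_ (isSolvable_of_not_four_dvd ?_)
  · exact isSolvable_of_two_group (IsPGroup.of_card (n := 2) (by rw [hcard]; norm_num))
  · intro h4
    refine h16 (Dvd.dvd.trans ?_ (card_subgroup_dvd_card C))
    rw [card_eq_card_quotient_mul_card_subgroup (U.subgroupOf C), hcard]
    exact Nat.mul_dvd_mul_right h4 4

theorem klein_le_normalizer_of_card_eight {U S : Subgroup G} (hUS : U ≤ S)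
    (hU : Nat.card U = 4) (hS : Nat.card S = 8) : S ≤ normalizer (U : Set G) := by
  haveI : (U.subgroupOf S).Normal := normal_of_index_eq_two (by
    have h := (U.subgroupOf S).card_mul_index
    rw [Nat.card_congr (subgroupOfEquivOfLe hUS).toEquiv, hU, hS] at h
    omega)
  exact (normal_subgroupOf_iff_le_normalizer hUS).mp inferInstance

/-- An involution centralizer containing an elementary Sylow 2-subgroup of order 8. -/
theorem centralizer_case (hm : 24 ∣ Nat.card G) (hc : Nat.Coprime 24 (Nat.card G / 24))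
    (hE : ∀ T : Sylow 2 G, ∀ y ∈ (T : Subgroup G), y ^ 2 = 1) (t : G) (ht : orderOf t = 2) :
    (∃ H : Subgroup G, Nat.card H = 24) ∨
      (Group.IsSolvable (centralizer ({t} : Set G)) ∧
        (Cfsg.oddCore (centralizer ({t} : Set G)) = ⊥ →
          IsMulCommutative (centralizer ({t} : Set G)) ∧
            ∀ c ∈ centralizer ({t} : Set G), c ^ 2 = 1)) := by
  obtain ⟨h16, h9⟩ := exact_twentyfour hm hc
  obtain ⟨T, hT⟩ : ∃ T : Sylow 2 G, zpowers t ≤ T :=
    (IsPGroup.of_card (n := 1) (by rw [Nat.card_zpowers, ht]; norm_num)).exists_le_sylow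
  have hT8 : Nat.card (T : Subgroup G) = 8 :=
    sylow_card (a := 3) T ((show 2 ^ 3 ∣ 24 by norm_num).trans hm) h16
  haveI hTc : IsMulCommutative (T : Subgroup G) := ⟨⟨fun a b =>
    Subtype.ext (by
      have ha := hE T a a.2
      have hb := hE T b b.2
      have hab := hE T _ (mul_mem a.2 b.2)
      simp only [pow_two] at ha hb hab
      show (a : G) * b = b * a
      rw [← inv_eq_of_mul_eq_one_right hab, mul_inv_rev, inv_eq_of_mul_eq_one_right ha,
        inv_eq_of_mul_eq_one_right hb])⟩⟩
  set C := centralizer ({t} : Set G)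
  have htT : t ∈ (T : Subgroup G) := hT (mem_zpowers t)
  have hTC : (T : Subgroup G) ≤ C := fun x hx => mem_centralizer_singleton_iff.mpr
    (congrArg Subtype.val (mul_comm' (⟨x, hx⟩ : (T : Subgroup G)) ⟨t, htT⟩))
  let t' : C := ⟨t, hTC htT⟩
  haveI : (zpowers t').Normal := ⟨fun x hx c => by
    obtain ⟨i, rfl⟩ := mem_zpowers_iff.mp hx
    have : Commute c t' := Subtype.ext (mem_centralizer_singleton_iff.mp c.2)
    rw [(this.zpow_right i).eq, mul_inv_cancel_right]
    exact hx⟩
  have ht' : Nat.card (zpowers t') = 2 := by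
    rw [Nat.card_zpowers, ← Subgroup.orderOf_coe]; exact ht
  have hQ : Nat.card C = Nat.card (C ⧸ zpowers t') * 2 := by
    rw [card_eq_card_quotient_mul_card_subgroup (zpowers t'), ht']
  have hC8 : 8 ∣ Nat.card C := hT8 ▸ card_dvd_of_le hTC
  have hCG : Nat.card C ∣ Nat.card G := card_subgroup_dvd_card C
  have hQ8 : ¬ 8 ∣ Nat.card (C ⧸ zpowers t') := fun h =>
    h16 ((Nat.mul_dvd_mul_right h 2).trans (hQ ▸ hCG))
  by_cases h3 : 3 ∣ Nat.card C
  · left
    have h24 : 24 ∣ Nat.card C :=
      (show Nat.Coprime 8 3 by norm_num).mul_dvd_of_dvd_of_dvd hC8 h3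
    have hc' := coprime_of_subgroup h24 hc
    have h12 : 12 ∣ Nat.card (C ⧸ zpowers t') := by omega
    have hc12 : Nat.Coprime 12 (Nat.card (C ⧸ zpowers t') / 12) := by
      have e : Nat.card C / 24 = Nat.card (C ⧸ zpowers t') / 12 := by omega
      exact e ▸ hc'.coprime_dvd_left (by norm_num)
    obtain ⟨H, hH, -⟩ := twelve h12 hc12
    exact exists_of_subgroup ⟨H.comap (QuotientGroup.mk' (zpowers t')),
      by rw [card_comap_mk', hH, ht']⟩
  · right
    let R : Sylow 2 (C ⧸ zpowers t') :=
      (T.subtype hTC).mapSurjective (QuotientGroup.mk'_surjective (zpowers t'))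
    have hR : IsKleinFour (R : Subgroup (C ⧸ zpowers t')) := by
      have hR4 : Nat.card (R : Subgroup (C ⧸ zpowers t')) = 4 :=
        sylow_card (a := 2) R (by omega) hQ8
      refine ⟨hR4, ?_⟩
      haveI : Nontrivial (R : Subgroup (C ⧸ zpowers t')) :=
        Finite.one_lt_card_iff_nontrivial.mp (by omega)
      refine (Nat.prime_two.eq_one_or_self_of_dvd _ (Monoid.exponent_dvd_of_forall_pow_eq_one
        fun x => ?_)).resolve_left (by rw [Monoid.exp_eq_one_iff]; exact not_subsingleton _)
      obtain ⟨y, hy, hyx⟩ : (x : C ⧸ zpowers t') ∈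
          ((T : Subgroup G).subgroupOf C).map (QuotientGroup.mk' (zpowers t')) := x.2
      refine Subtype.ext ?_
      rw [SubmonoidClass.coe_pow, ← hyx, ← map_pow,
        show y ^ 2 = 1 from Subtype.ext (hE T y hy), map_one]
      rfl
    have hn : HasNormalPComplement 2 (C ⧸ zpowers t') := Cfsg.Agent.S0084.result R hR
      fun h => h3 (h.trans (hQ ▸ dvd_mul_right _ 2))
    refine ⟨isSolvable_of_normal (zpowers t') ?_ (isSolvable_of_hasNormalPComplement hn),
      fun hO => ?_⟩
    · exact isSolvable_of_two_group (IsPGroup.of_card (n := 1) (by rw [ht']; norm_num))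
    obtain ⟨P, M, hM, hMc⟩ := hn
    haveI := hM
    set K := M.comap (QuotientGroup.mk' (zpowers t'))
    have hMo := Fusion.not_dvd_card_of_isComplement' P hMc
    have hK4 : ¬ 4 ∣ Nat.card K := by
      rw [show Nat.card K = Nat.card M * 2 by rw [card_comap_mk', ht']]
      omega
    have hKn := hasNormalPComplement_of_not_four_dvd hK4
    have hKO : Cfsg.oddCore K = ⊥ := by
      have h := Cores.map_pPrimeCore_of_normal (p := 2) K
      rw [show Cfsg.pPrimeCore 2 C = ⊥ from hO, bot_inf_eq] at h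
      exact (map_eq_bot_iff_of_injective _ K.subtype_injective).mp h
    have hres : pResidual 2 K = ⊥ := by
      rw [eq_bot_iff, ← hKO]
      refine Cores.le_oddCore (Nat.not_even_iff_odd.mp fun he => ?_)
      exact Fusion.hasNormalPComplement_iff_pResidual.mp hKn he.two_dvd
    have hK2 : IsPGroup 2 K := by
      have h := Fusion.isPGroup_quotient_pResidual (p := 2) (G := K)
      exact h.of_equiv ((QuotientGroup.quotientMulEquivOfEq hres).trans QuotientGroup.quotientBot)
    have hC2 : IsPGroup 2 C := by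
      have hQ2 : IsPGroup 2 (C ⧸ K) := by
        refine (Fusion.isPGroup_quotient_of_isComplement' P hMc).of_injective
          (QuotientGroup.lift K ((QuotientGroup.mk' M).comp (QuotientGroup.mk' (zpowers t')))
            fun x hx => by simpa [K] using hx) ?_
        rw [← MonoidHom.ker_eq_bot_iff, eq_bot_iff]
        intro x hx
        obtain ⟨y, rfl⟩ := QuotientGroup.mk'_surjective K x
        have : QuotientGroup.mk' (zpowers t') y ∈ M := (QuotientGroup.eq_one_iff _).mp hx
        exact (QuotientGroup.eq_one_iff y).mpr this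
      obtain ⟨a, ha⟩ := IsPGroup.iff_card.mp hK2
      obtain ⟨b, hb⟩ := IsPGroup.iff_card.mp hQ2
      exact IsPGroup.of_card (n := b + a)
        (by rw [card_eq_card_quotient_mul_card_subgroup K, ha, hb, pow_add])
    have hCT : C = (T : Subgroup G) := T.is_maximal' hC2 hTC
    exact ⟨hCT ▸ hTc, fun c hc => hE T c (hCT ▸ hc)⟩

theorem twentyfour_reduced (hm : 24 ∣ Nat.card G) (hc : Nat.Coprime 24 (Nat.card G / 24))
    (hO : Cfsg.oddCore G = ⊥) : ∃ H : Subgroup G, Nat.card H = 24 := by
  by_cases hn : HasNormalPComplement 2 G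
  · haveI := isSolvable_of_hasNormalPComplement hn
    exact exists_of_isSolvable hm hc
  obtain ⟨h16, h9⟩ := exact_twentyfour hm hc
  let S : Sylow 2 G := default
  have hS : Nat.card (S : Subgroup G) = 8 :=
    sylow_card (a := 3) S ((show 2 ^ 3 ∣ 24 by norm_num).trans hm) h16
  obtain ⟨U, hU, g, r, k, hg, hr, hr2, hk, hgC⟩ := exists_local S hn
  obtain ⟨j, hj, hUc⟩ := (Nat.dvd_prime_pow Nat.prime_two).mp
    ((card_dvd_of_le hU).trans (dvd_of_eq hS) : Nat.card U ∣ 2 ^ 3)
  rcases Nat.lt_or_ge j 3 with hj3 | hj3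
  · obtain ⟨rfl, hU4, hUk⟩ := klein_of_local hr hr2 hg hk hgC
      (hUc ▸ (Nat.pow_dvd_pow 2 (show j ≤ 2 by omega)))
    have hgo := orderOf_eq_three hk h9 hgC
    refine exists_of_solvable_subgroup (normalizer (U : Set G))
      (isSolvable_normalizer_klein hUk (isSolvable_centralizer_of_card_four hUk h16)) ?_ hc
    refine (show Nat.Coprime 8 3 by norm_num).mul_dvd_of_dvd_of_dvd ?_ ?_
    · rw [← hS]; exact card_dvd_of_le (klein_le_normalizer_of_card_eight hU hU4 hS)
    · rw [← hgo, ← Nat.card_zpowers]; exact card_dvd_of_le (zpowers_le.mpr hg)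
  have hU8 : Nat.card U = 8 := by rw [hUc, show j = 3 by omega]; norm_num
  rcases local_of_card_eight hr hr2 hg hk hgC hU8 with rfl | ⟨rfl, hsq, -⟩
  · have hgo := orderOf_eq_three hk h9 hgC
    obtain ⟨K, hK⟩ := exists_extension hg (by rw [hU8, hgo]; norm_num)
    exact ⟨K, by rw [hK, hU8, hgo]⟩
  have hUS : U = (S : Subgroup G) := eq_of_le_of_card_ge hU (by rw [hU8, hS])
  have hE : ∀ T : Sylow 2 G, ∀ y ∈ (T : Subgroup G), y ^ 2 = 1 := fun T y hy => by
    have h := hsq (((T.equiv S) ⟨y, hy⟩ : (S : Subgroup G)) : G) (hUS.ge ((T.equiv S) ⟨y, hy⟩).2)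
    rw [← SubmonoidClass.coe_pow, ← map_pow, OneMemClass.coe_eq_one,
      EmbeddingLike.map_eq_one_iff] at h
    simpa using congrArg Subtype.val h
  by_contra hno
  have hcase := fun t ht => (centralizer_case hm hc hE t ht).resolve_left hno
  haveI hSc : IsMulCommutative (S : Subgroup G) := ⟨⟨fun a b =>
    mul_comm_of_exponent_two (G := (S : Subgroup G)) ((Nat.prime_two.eq_one_or_self_of_dvd _
      (Monoid.exponent_dvd_of_forall_pow_eq_one fun u => Subtype.ext (hE S u u.2))).resolve_left
        (by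
          haveI : Nontrivial (S : Subgroup G) := Finite.one_lt_card_iff_nontrivial.mp (by omega)
          rw [Monoid.exp_eq_one_iff]; exact not_subsingleton _)) a b⟩⟩
  have hrank : ¬ Cfsg.PRankLE 2 2 (S : Subgroup G) := fun h => by
    have := h ⊤ inferInstance (fun a _ => Subtype.ext (hE S a a.2))
    rw [card_top, hS] at this
    norm_num at this
  have hC : ∀ t : G, orderOf t = 2 → IsMulCommutative (centralizer ({t} : Set G)) ∧
      ∀ c ∈ centralizer ({t} : Set G), c ^ 2 = 1 := fun t ht =>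
    (hcase t ht).2 (H70.Balanced.solvable_centralizers_cores_trivial
      (fun H hH => Cfsg.Agent.S1221.result H hH) hO S (S : Subgroup G) le_rfl
      (by rw [subgroupOf_self]; infer_instance) hSc hrank (fun u hu => (hcase u hu).1) t ht)
  obtain ⟨F, _, _, hF, ⟨e⟩⟩ := Cfsg.Agent.S1230.result S
    (fun hcyc => by
      obtain ⟨x, hx⟩ := hcyc.exists_generator
      have h2 : orderOf x ∣ 2 := orderOf_dvd_of_pow_eq_one (Subtype.ext (hE S x x.2))
      rw [orderOf_eq_card_of_forall_mem_zpowers hx, hS] at h2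
      norm_num at h2)
    (fun hnor => by
      haveI := hnor
      have hs : Group.IsSolvable G := isSolvable_of_normal (S : Subgroup G)
        (isSolvable_of_two_group S.isPGroup') (isSolvable_of_not_four_dvd fun h4 => by
          have := card_eq_card_quotient_mul_card_subgroup (S : Subgroup G)
          rw [hS] at this
          omega)
      exact hno (exists_of_isSolvable hm hc))
    hC
  have hcard := Cfsg.Agent.Linear.card_PSL_two_mul (F := F)
  rw [hF, hS] at hcard
  norm_num at hcard
  rw [Nat.card_congr e.toEquiv, hcard] at h9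
  norm_num at h9

theorem twentyfour (hm : 24 ∣ Nat.card G) (hc : Nat.Coprime 24 (Nat.card G / 24)) :
    ∃ H : Subgroup G, Nat.card H = 24 := by
  have hOodd : Odd (Nat.card (Cfsg.oddCore G)) := Cores.odd_card_oddCore
  let S : Sylow 2 G := default
  by_cases h3 : 3 ∣ Nat.card (Cfsg.oddCore G)
  · refine exists_of_quotient_solvable (d := 8) (Cfsg.oddCore G) hOodd
      (Nat.mul_dvd_mul_left 8 h3) hc ?_
    let R : Sylow 2 (G ⧸ Cfsg.oddCore G) :=
      S.mapSurjective (QuotientGroup.mk'_surjective (Cfsg.oddCore G))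
    refine ⟨R, ?_, isSolvable_of_two_group R.isPGroup'⟩
    obtain ⟨h16, -⟩ := exact_twentyfour hm hc
    refine sylow_card (a := 3) R ?_ fun h => h16 (h.trans (card_quotient_dvd_card _))
    refine (Nat.Coprime.dvd_of_dvd_mul_right (m := Nat.card (G ⧸ Cfsg.oddCore G))
      ((Nat.coprime_two_left.mpr hOodd).pow_left 3) ?_)
    rw [← card_eq_card_quotient_mul_card_subgroup]
    exact (show 2 ^ 3 ∣ 24 by norm_num).trans hm
  · have hN : (Nat.card (Cfsg.oddCore G)).Coprime 24 := coprime_of_dvd_primes (by norm_num)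
      (fun _ => hOodd.not_two_dvd_nat) (fun _ => h3) (fun h => by norm_num at h)
    obtain ⟨hm', hc'⟩ := exact_quotient (Cfsg.oddCore G) hm hN hc
    exact exists_of_quotient (Cfsg.oddCore G) hN
      (twentyfour_reduced hm' hc' oddCore_quotient_eq_bot)

end Cfsg.Agent.H84.HallNum
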